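import Groth.Agent.H11Proj.PnGlobal
import Groth.Agent.H22Alg.SubspaceAvoid
import Groth.Prelude.Def_LCI2
import Groth.Prelude.Def_CurvBase

/-!
# A section of a very ample sheaf through a rational point missing given points
-/

set_option autoImplicit false
set_option linter.style.haveILetI false

noncomputable section

universe u

open CategoryTheory CategoryTheory.Limits AlgebraicGeometry Opposite TopologicalSpace
open Groth.Agent.H11Tilde Groth.Agent.H11Ample Groth.Agent.H11Proj
open CohB1 (ProjSpaceOver polyGrading)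

namespace Groth.Agent.H7Variety

variable (k : Type u) [Field k] (X : Scheme.{u}) [X.Over (Spec (CommRingCat.of k))]

theorem evaluation_global {V : X.Opens} (y : X) (hy : y ∈ V) (c : k) :
    X.evaluation V y hy (X.presheaf.map (homOfLE (le_top (a := V))).op (Coh.toGlobal (X ↘ Spec (CommRingCat.of k)) c)) =
      Curv2.resMap k X y c := by
  show X.residue y (X.presheaf.germ V y hy _) = _
  rw [TopCat.Presheaf.germ_res_apply]
  rfl

theorem exists_gen_avoid [Infinite k] (L : X.Modules)
    (hL : RelAmple.IsRelVeryAmplePn (X ↘ (Spec (CommRingCat.of k))) L)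
    (x : ↥X) (hx : Function.Surjective (Curv2.resMap k X x)) (m : ℕ) (pts : Fin m → ↥X) (hne : ∀ i, pts i ≠ x) :
    ∃ g : Γ(L, ⊤), x ∉ gen L g ∧ ∀ i, pts i ∈ gen L g := by
  classical
  obtain ⟨n, i, hi, hip, ⟨e⟩⟩ := hL
  let qX := X ↘ Spec (CommRingCat.of k)
  let S : Scheme.{u} := Spec (CommRingCat.of k)
  let P := ProjSpaceOver n S
  let p₁ : P ⟶ Proj (polyGrading n (ULift.{u} ℤ)) := 𝟙 P ≫ pullback.fst _ _
  let r : X ⟶ Proj (polyGrading n (ULift.{u} ℤ)) := i ≫ p₁
  let T := Twist.twistProjSpace n (ULift.{u} ℤ) 1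
  let τ : (Scheme.Modules.pullback r).obj T ≅ L :=
    (Scheme.Modules.pullbackCongr (show r = i ≫ pullback.fst _ _ from congrArg (i ≫ ·) (Category.id_comp _))).app T ≪≫
      ((Scheme.Modules.pullbackComp i _).app T).symm ≪≫ e.symm
  let v : Fin (n + 1) → Γ(L, ⊤) := fun l => τ.hom.app ⊤ (pullTop r (L := T) (ProjUP.coord n (ULift.{u} ℤ) l))
  obtain ⟨hpre, hrat⟩ := pn_sections r τ v fun _ => rfl
  let a : k →+* Γ(X, ⊤) := Coh.toGlobal qX
  let w : (Fin (n + 1) → k) → Γ(L, ⊤) := fun c => ∑ l, a (c l) • v l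
  let φ : ∀ (j : Fin (n + 1)) (y : X), y ∈ preD r j → (Fin (n + 1) → k) → X.residueField y :=
    fun j y hy c => ∑ l, Curv2.resMap k X y (c l) * X.evaluation (preD r j) y hy (ratioSec r j l)
  have hgen : ∀ j (y : X) (hy : y ∈ preD r j) (c : Fin (n + 1) → k), y ∈ gen L (w c) ↔ φ j y hy c ≠ 0 := by
    intro j y hy c
    have hG : IsGen L (L.presheaf.map (homOfLE (le_top : preD r j ≤ ⊤)).op (v j)) := by
      have key : ∀ U : X.Opens, U = gen L (v j) → IsGen L (L.presheaf.map (homOfLE (le_top : U ≤ ⊤)).op (v j)) := by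
        rintro U rfl; exact isGen_gen (v j)
      exact key _ (hpre j).symm
    let cc : Γ(X, preD r j) := ∑ l, X.presheaf.map (homOfLE (le_top : preD r j ≤ ⊤)).op (a (c l)) * ratioSec r j l
    have hc : L.presheaf.map (homOfLE (le_top : preD r j ≤ ⊤)).op (w c) =
        cc • L.presheaf.map (homOfLE (le_top : preD r j ≤ ⊤)).op (v j) := by
      simp only [w, cc, map_sum, Finset.sum_smul]
      refine Finset.sum_congr rfl fun l _ => ?_
      rw [Scheme.Modules.map_smul, hrat j l, mul_smul]
    have h1 := gen_inf_eq_basicOpen hG (w c) cc hc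
    have h2 : X.evaluation (preD r j) y hy cc = φ j y hy c := by
      simp only [cc, φ, map_sum, map_mul]
      refine Finset.sum_congr rfl fun l _ => ?_
      exact congrArg (· * _) (evaluation_global k X y hy (c l))
    rw [← h2, X.evaluation_ne_zero_iff_mem_basicOpen (x := y) (hx := hy) (f := cc), ← h1]
    exact ⟨fun h => ⟨h, hy⟩, fun h => h.1⟩
  obtain ⟨j, hj⟩ : ∃ j, x ∈ preD r j := by
    obtain ⟨j, hj⟩ := (chartsOfClosedImmersion (𝟙 P)).cover (i x)
    exact ⟨j, hj⟩
  let ψ : k ≃+* X.residueField x := RingEquiv.ofBijective (Curv2.resMap k X x) ⟨(Curv2.resMap k X x).injective, hx⟩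
  -- forms vanishing at `x` separate it from any other point
  have sep : ∀ y : X, y ≠ x → ∃ c, φ j x hj c = 0 ∧ ∀ l (hl : y ∈ preD r l), φ l y hl c ≠ 0 := by
    intro y hyx
    by_contra hno
    push Not at hno
    have hno' : ∀ c, φ j x hj c = 0 → y ∉ gen L (w c) := fun c hc hy => by
      obtain ⟨l, hl, hz⟩ := hno c hc
      exact (hgen l y hl c).1 hy hz
    let A : Fin (n + 1) → k := fun l => ψ.symm (X.evaluation (preD r j) x hj (ratioSec r j l))
    let cl : Fin (n + 1) → Fin (n + 1) → k := fun l => Pi.single l 1 - A l • Pi.single j 1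
    have hφ : ∀ (j' : Fin (n + 1)) (z : X) (hz : z ∈ preD r j') (l : Fin (n + 1)), φ j' z hz (cl l) =
        X.evaluation (preD r j') z hz (ratioSec r j' l) -
          Curv2.resMap k X z (A l) * X.evaluation (preD r j') z hz (ratioSec r j' j) := by
      intro j' z hz l
      simp only [φ, cl, Pi.sub_apply, Pi.smul_apply, smul_eq_mul, map_sub, map_mul, sub_mul,
        Finset.sum_sub_distrib, Pi.single_apply, apply_ite (Curv2.resMap k X z), map_one, map_zero, ite_mul,
        mul_ite, one_mul, zero_mul, mul_zero, mul_one, Finset.sum_ite_eq', Finset.mem_univ, if_true]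
    have hone : ∀ (j' : Fin (n + 1)) (z : X) (hz : z ∈ preD r j'),
        X.evaluation (preD r j') z hz (ratioSec r j' j') = 1 := fun j' z hz => by
      rw [ratioSec, ratio_self]
      erw [map_one, map_one]
    have hA : ∀ l, φ j x hj (cl l) = 0 := fun l => by
      rw [hφ, hone, mul_one, show Curv2.resMap k X x (A l) = _ from ψ.apply_symm_apply _, sub_self]
    obtain ⟨l₀, hl₀⟩ : ∃ l, y ∈ preD r l := by
      obtain ⟨l, hl⟩ := (chartsOfClosedImmersion (𝟙 P)).cover (i y)
      exact ⟨l, hl⟩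
    have hyj : y ∈ preD r j := by
      by_contra hyj
      refine hno' (cl l₀) (hA l₀) ((hgen l₀ y hl₀ _).2 ?_)
      have h0 : X.evaluation (preD r l₀) y hl₀ (ratioSec r l₀ j) = 0 := by
        by_contra h
        apply hyj
        let e₀ : Fin (n + 1) → k := Pi.single j 1
        have hy' : y ∈ gen L (w e₀) := (hgen l₀ y hl₀ e₀).2 (by
          simpa [φ, e₀, Pi.single_apply, apply_ite] using h)
        have hw : w e₀ = v j := by simp [w, e₀, Pi.single_apply, apply_ite, ite_smul]
        rw [hw, hpre j] at hy'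
        exact hy'
      rw [hφ, hone, h0, mul_zero, sub_zero]
      exact one_ne_zero
    have hval : ∀ l, X.evaluation (preD r j) y hyj (ratioSec r j l) = Curv2.resMap k X y (A l) := fun l => by
      have := (hgen j y hyj (cl l)).not.1 (hno' _ (hA l))
      rw [not_not, hφ, hone, mul_one, sub_eq_zero] at this
      exact this
    apply hyx
    apply i.isEmbedding.injective
    let C := chartsOfClosedImmersion (𝟙 P)
    let V := C.V j ⊓ (𝟙 P ≫ ProjSpaceOver.toBase n S) ⁻¹ᵁ ⊤
    have hV : IsAffineOpen V := C.affine ⊤ (isAffineOpen_top _) j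
    have hxV : i x ∈ V := ⟨hj, trivial⟩
    have hyV : i y ∈ V := ⟨hyj, trivial⟩
    let ev : ∀ z : X, i z ∈ V → Γ(P, V) →+* X.residueField z := fun z hz =>
      (X.evaluation (i ⁻¹ᵁ V) z hz).hom.comp (i.app V).hom
    let θ : X.residueField x →+* X.residueField y := (Curv2.resMap k X y).comp ψ.symm.toRingHom
    have hq : i ≫ 𝟙 P ≫ ProjSpaceOver.toBase n S = qX := by
      rw [Category.id_comp]; exact hip
    have hev : ev y hyV = θ.comp (ev x hxV) := by
      refine RingHom.ext fun f => ?_
      obtain ⟨Q, rfl⟩ := C.surj ⊤ (isAffineOpen_top _) j f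
      have hb : ∀ (z : X) (hz : i z ∈ V) (c : Γ(S, ⊤)), ev z hz
          (((𝟙 P ≫ ProjSpaceOver.toBase n S).appLE ⊤ V inf_le_right).hom c) =
          Curv2.resMap k X z ((Scheme.ΓSpecIso (CommRingCat.of k)).hom c) := by
        intro z hz c
        obtain ⟨c, rfl⟩ := (Scheme.ΓSpecIso (CommRingCat.of k)).commRingCatIsoToRingEquiv.symm.surjective c
        rw [← evaluation_global k X (V := i ⁻¹ᵁ V) z hz]
        refine congrArg (X.evaluation (i ⁻¹ᵁ V) z hz) ?_
        show ((𝟙 P ≫ ProjSpaceOver.toBase n S).appLE ⊤ V inf_le_right ≫ i.app V) _ = _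
        rw [Scheme.Hom.app_eq_appLE, Scheme.Hom.appLE_comp_appLE,
          H11Proj.Charts.appLE_congr_hom hq _ (show i ⁻¹ᵁ V ≤ qX ⁻¹ᵁ ⊤ from le_top), Scheme.Hom.appLE]
        show X.presheaf.map _ (qX.appTop ((Scheme.ΓSpecIso (CommRingCat.of k)).inv c)) =
          X.presheaf.map _ (Coh.toGlobal qX ((Scheme.ΓSpecIso (CommRingCat.of k)).hom ((Scheme.ΓSpecIso (CommRingCat.of k)).inv c)))
        rw [Iso.inv_hom_id_apply]
        rfl
      have hr : ∀ (z : X) (hz : i z ∈ V) (l : Fin (n + 1)), ev z hz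
          (P.presheaf.map (homOfLE (inf_le_left : V ≤ C.V j)).op (C.ρ j l)) =
          X.evaluation (preD r j) z hz.1 (ratioSec r j l) := by
        intro z hz l
        show X.residue z (X.presheaf.germ _ z hz (i.app V (P.presheaf.map _ (C.ρ j l)))) =
          X.residue z (X.presheaf.germ _ z hz.1 _)
        rw [← Scheme.Hom.germ_stalkMap_apply, TopCat.Presheaf.germ_res_apply, Scheme.Hom.germ_stalkMap_apply]
        rfl
      induction Q using MvPolynomial.induction_on with
      | C c =>
        rw [ChartAlg.hom, MvPolynomial.eval₂Hom_C]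
        refine (hb y hyV c).trans (Eq.trans ?_ (congrArg θ (hb x hxV c)).symm)
        exact congrArg (Curv2.resMap k X y) (ψ.symm_apply_apply _).symm
      | add Q R hQ hR => simp only [map_add, hQ, hR]
      | mul_X Q l hQ =>
        rw [map_mul, map_mul, map_mul, hQ]
        congr 1
        rw [ChartAlg.hom, MvPolynomial.eval₂Hom_X']
        exact (hr y hyV l).trans ((hval l).trans (congrArg θ (hr x hxV l)).symm)
    have hiff : ∀ f : Γ(P, V), i y ∈ P.basicOpen f ↔ i x ∈ P.basicOpen f := by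
      intro f
      rw [show (i y ∈ P.basicOpen f) = (y ∈ i ⁻¹ᵁ P.basicOpen f) from rfl,
        show (i x ∈ P.basicOpen f) = (x ∈ i ⁻¹ᵁ P.basicOpen f) from rfl, Scheme.preimage_basicOpen,
        ← X.evaluation_ne_zero_iff_mem_basicOpen (hx := hyV), ← X.evaluation_ne_zero_iff_mem_basicOpen (hx := hxV)]
      show ev y hyV f ≠ 0 ↔ ev x hxV f ≠ 0
      rw [hev, RingHom.comp_apply, map_ne_zero]
    have heq : hV.primeIdealOf ⟨i y, hyV⟩ = hV.primeIdealOf ⟨i x, hxV⟩ := by
      refine PrimeSpectrum.ext (Ideal.ext fun f => ?_)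
      have hh : ∀ (p : P) (hp : p ∈ V), f ∈ (hV.primeIdealOf ⟨p, hp⟩).asIdeal ↔ p ∉ P.basicOpen f := by
        intro p hp
        have : p ∈ P.basicOpen f ↔ hV.primeIdealOf ⟨p, hp⟩ ∈ hV.fromSpec ⁻¹ᵁ P.basicOpen f := by
          show _ ↔ hV.fromSpec _ ∈ P.basicOpen f
          rw [hV.fromSpec_primeIdealOf]
        rw [this, hV.fromSpec_preimage_basicOpen]
        exact not_not.symm
      rw [hh, hh, hiff]
    have := congrArg hV.fromSpec heq
    rwa [hV.fromSpec_primeIdealOf, hV.fromSpec_primeIdealOf] at this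
  -- avoid finitely many proper subspaces
  have hcover : ∀ y : X, ∃ l, y ∈ preD r l := fun y => (chartsOfClosedImmersion (𝟙 P)).cover (i y)
  choose ly hly using fun t => hcover (pts t)
  letI : ∀ z : X, Algebra k (X.residueField z) := fun z => (Curv2.resMap k X z).toAlgebra
  let Φ : ∀ (l : Fin (n + 1)) (z : X), z ∈ preD r l → ((Fin (n + 1) → k) →ₗ[k] X.residueField z) := fun l z hz =>
    { toFun := φ l z hz
      map_add' := fun c d => by simp [φ, add_mul, Finset.sum_add_distrib]
      map_smul' := fun t c => by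
        show φ l z hz (t • c) = Curv2.resMap k X z t * φ l z hz c
        simp only [φ, Finset.mul_sum]
        refine Finset.sum_congr rfl fun q _ => ?_
        rw [Pi.smul_apply, smul_eq_mul, map_mul, mul_assoc] }
  let W := LinearMap.ker (Φ j x hj)
  obtain ⟨⟨c, hcW⟩, hc⟩ := H22Alg.exists_linear_avoid (R := k) (M := W) (⊥ : Ideal k) (fun t => X.residueField (pts t))
    (fun t => (RingHom.ker_eq_bot_iff_eq_zero _).2 fun z hz => (map_eq_zero _).1 hz)
    (fun t => (Φ (ly t) (pts t) (hly t)).comp W.subtype) (fun t h0 => by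
      obtain ⟨c, hc0, hc⟩ := sep (pts t) (hne t)
      exact hc (ly t) (hly t) (LinearMap.congr_fun h0 ⟨c, hc0⟩))
    (by
      haveI : Infinite (⊥ : Ideal k).ResidueField :=
        Infinite.of_injective _ (algebraMap k (⊥ : Ideal k).ResidueField).injective
      exact (Cardinal.natCast_le_aleph0 (n := m)).trans (Cardinal.aleph0_le_mk _))
    Finset.univ
  exact ⟨w c, fun h => (hgen j x hj c).1 h hcW, fun t => (hgen (ly t) _ (hly t) c).2 (hc t (Finset.mem_univ t))⟩

end Groth.Agent.H7Variety
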