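import Groth.Agent.S10902
import Groth.Agent.H17.OmegaLocal
import Groth.Agent.H29Omega.SheafFinite
import Groth.Agent.H29Fitt.Sheaf
import Groth.Agent.H8Props.FieldDimScheme
import Groth.Prelude.Def_FixPt

/-!
# The fibre of the sheaf of relative differentials bounds the dimension of the fibre
-/

set_option autoImplicit false
set_option linter.style.haveILetI false
universe u

open CategoryTheory AlgebraicGeometry TensorProduct TopologicalSpace

namespace Groth.Agent.H7Variety

/-- A surjection from the sections onto a module killed by `P` bounds the fibre of the stalk. -/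
theorem finrank_le_fiber {k A O N M W : Type u} [Field k] [CommRing A] [Algebra k A]
    (P : Ideal A) [P.IsMaximal] (hk : Function.Surjective ((Ideal.Quotient.mk P).comp (algebraMap k A)))
    [CommRing O] [IsLocalRing O] [Algebra A O] [IsLocalization.AtPrime O P]
    [AddCommGroup N] [Module A N] [Module.Finite A N]
    [AddCommGroup M] [Module A M] [Module O M] [IsScalarTower A O M]
    (g : N →ₗ[A] M) [IsLocalizedModule P.primeCompl g]
    [AddCommGroup W] [Module A W] [Module k W] [IsScalarTower k A W]
    (hW : ∀ a ∈ P, ∀ w : W, a • w = 0) (L : N →ₗ[A] W) (hL : Function.Surjective L)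
    (kO : k →+* O) (hkO : kO = (algebraMap A O).comp (algebraMap k A)) :
    letI : Module k (M ⧸ (IsLocalRing.maximalIdeal O • (⊤ : Submodule O M))) := Module.compHom _ kO
    Module.finrank k W ≤ Module.finrank k (M ⧸ (IsLocalRing.maximalIdeal O • (⊤ : Submodule O M))) := by
  letI ak : Module k (M ⧸ (IsLocalRing.maximalIdeal O • (⊤ : Submodule O M))) := Module.compHom _ kO
  have hunit : ∀ s : P.primeCompl, IsUnit (algebraMap A (Module.End A W) s) := by
    rintro ⟨s, hs⟩
    obtain ⟨t, i, hi, hti⟩ := (Ideal.IsMaximal.exists_inv (inferInstanceAs P.IsMaximal) hs)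
    rw [Module.End.isUnit_iff]
    have h1 : ∀ w : W, t • s • w = w := fun w => by
      have : (t * s + i) • w = w := by rw [hti, one_smul]
      rwa [add_smul, hW i hi, add_zero, mul_smul] at this
    exact Function.bijective_iff_has_inverse.mpr ⟨fun w => t • w, h1, fun w =>
      show s • t • w = w by rw [smul_comm, h1]⟩
  let Φ : M →ₗ[A] W := IsLocalizedModule.lift P.primeCompl g L hunit
  have hΦg : ∀ n, Φ (g n) = L n := fun n => IsLocalizedModule.lift_apply _ _ _ _ _
  have hsurj : Function.Surjective Φ := fun w => by
    obtain ⟨n, rfl⟩ := hL w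
    exact ⟨g n, hΦg n⟩
  have hkill : ∀ m ∈ (IsLocalRing.maximalIdeal O • (⊤ : Submodule O M)), Φ m = 0 := by
    intro m hm
    refine Submodule.smul_induction_on hm ?_ fun a b ha hb => by rw [map_add, ha, hb, add_zero]
    intro r hr v _
    obtain ⟨a, s, rfl⟩ := IsLocalization.exists_mk'_eq P.primeCompl r
    have haP : a ∈ P := (IsLocalization.AtPrime.mk'_mem_maximal_iff O P a s).mp hr
    have h1 : (s : A) • Φ (IsLocalization.mk' O a s • v) = 0 := by
      rw [← map_smul, ← algebraMap_smul O (s : A), smul_smul, mul_comm, IsLocalization.mk'_spec,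
        algebraMap_smul, map_smul, hW a haP]
    exact ((Module.End.isUnit_iff _).mp (hunit s)).1 (h1.trans (smul_zero (s : A)).symm)
  let Ψ : (M ⧸ (IsLocalRing.maximalIdeal O • (⊤ : Submodule O M))) →ₗ[k] W :=
    { toFun := Quotient.lift (fun m => Φ m) fun a b hab => by
        have h := hkill (a - b) ((Submodule.quotientRel_def _).mp hab)
        rwa [map_sub, sub_eq_zero] at h
      map_add' := by
        rintro ⟨a⟩ ⟨b⟩
        exact map_add Φ a b
      map_smul' := by
        rintro c ⟨a⟩
        show Φ (kO c • a) = c • Φ a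
        rw [hkO, RingHom.comp_apply, algebraMap_smul, map_smul, algebraMap_smul] }
  have hΨ : Function.Surjective Ψ := fun w => by
    obtain ⟨m, rfl⟩ := hsurj w
    exact ⟨Submodule.Quotient.mk m, rfl⟩
  haveI : Module.Finite O M := Module.Finite.of_isLocalizedModule P.primeCompl g
  haveI : Module.Finite k (M ⧸ (IsLocalRing.maximalIdeal O • (⊤ : Submodule O M))) := by
    obtain ⟨G, hG⟩ := Module.Finite.fg_top (R := O) (M := M ⧸ (IsLocalRing.maximalIdeal O • (⊤ : Submodule O M)))
    refine ⟨⟨G, eq_top_iff.mpr fun z hzt => ?_⟩⟩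
    clear hzt
    have hz : z ∈ Submodule.span O (G : Set _) := hG ▸ trivial
    have hres : ∀ r : O, ∃ c : k, r - kO c ∈ IsLocalRing.maximalIdeal O := by
      intro r
      obtain ⟨a, s, rfl⟩ := IsLocalization.exists_mk'_eq P.primeCompl r
      obtain ⟨t, i, hi, hti⟩ := (Ideal.IsMaximal.exists_inv (inferInstanceAs P.IsMaximal) s.2)
      obtain ⟨c, hc⟩ := hk (Ideal.Quotient.mk P (a * t))
      rw [RingHom.comp_apply, Ideal.Quotient.eq] at hc
      refine ⟨c, ?_⟩
      rw [hkO, RingHom.comp_apply, IsLocalization.mk'_eq_mul_mk'_one, ← IsLocalRing.residue_eq_zero_iff]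
      have h1 : ∀ b ∈ P, IsLocalRing.residue O (algebraMap A O b) = 0 := fun b hb =>
        (IsLocalRing.residue_eq_zero_iff _).mpr ((IsLocalization.AtPrime.to_map_mem_maximal_iff O P b).mpr hb)
      have hs1 : IsLocalRing.residue O (IsLocalization.mk' O 1 s) = IsLocalRing.residue O (algebraMap A O t) := by
        have h2 : IsLocalRing.residue O (IsLocalization.mk' O 1 s) * IsLocalRing.residue O (algebraMap A O s) = 1 := by
          rw [← map_mul, IsLocalization.mk'_spec, map_one, map_one]
        have h3 : IsLocalRing.residue O (algebraMap A O t) * IsLocalRing.residue O (algebraMap A O s) = 1 := by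
          have := congrArg (fun b => IsLocalRing.residue O (algebraMap A O b)) hti
          simpa [h1 i hi] using this
        exact (mul_right_cancel₀ (fun h0 => by rw [h0, mul_zero] at h3; exact zero_ne_one h3) (h2.trans h3.symm))
      rw [map_sub, map_mul, hs1, ← map_mul, ← map_mul, ← map_sub, ← map_sub, ← neg_sub, map_neg, map_neg, h1 _ hc, neg_zero]
    clear hG
    induction hz using Submodule.span_induction with
    | mem y hy => exact Submodule.subset_span hy
    | zero => exact zero_mem _
    | add y y' _ _ h h' => exact add_mem h h'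
    | smul r y _ h =>
      obtain ⟨c, hc⟩ := hres r
      have : r • y = c • y := by
        obtain ⟨m, rfl⟩ := Submodule.Quotient.mk_surjective _ y
        show Submodule.Quotient.mk (r • m) = Submodule.Quotient.mk (kO c • m)
        rw [Submodule.Quotient.eq, ← sub_smul]
        exact Submodule.smul_mem_smul hc trivial
      rw [this]; exact Submodule.smul_mem _ c h
  exact Ψ.finrank_le_finrank_of_surjective hΨ

end Groth.Agent.H7Variety
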