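import Mathlib

/-!
# A separable function field as that of a monic hypersurface
-/

set_option autoImplicit false
set_option linter.style.haveILetI false
universe u

open Polynomial
open scoped IntermediateField IntermediateField.algebraAdjoinAdjoin

namespace Groth.Agent.H7Variety

/-- A finitely generated separably generated field is the fraction field of a monic separable hypersurface. -/
theorem exists_hypersurface (k L : Type u) [Field k] [Field L] [Algebra k L] [Algebra.EssFiniteType k L]
    (d : ℕ) (s : Fin d → L) (hs : IsTranscendenceBasis k s)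
    (hsep : Algebra.IsSeparable ↥(IntermediateField.adjoin k (Set.range s)) L) :
    ∃ g : Polynomial (MvPolynomial (Fin d) k), g.Monic ∧
      Irreducible (g.map (algebraMap (MvPolynomial (Fin d) k) (FractionRing (MvPolynomial (Fin d) k)))) ∧
      (g.map (algebraMap (MvPolynomial (Fin d) k) (FractionRing (MvPolynomial (Fin d) k)))).Separable ∧
      IsDomain (AdjoinRoot g) ∧ ∃ φ : AdjoinRoot g →ₐ[k] L,
        (letI := φ.toRingHom.toAlgebra; IsFractionRing (AdjoinRoot g) L) := by
  classical
  let P := MvPolynomial (Fin d) k
  let K := FractionRing P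
  letI aPL : Algebra P L := (MvPolynomial.aeval (R := k) s).toRingHom.toAlgebra
  haveI : IsScalarTower k P L := IsScalarTower.of_algebraMap_eq fun c => ((MvPolynomial.aeval (R := k) s).commutes c).symm
  haveI : FaithfulSMul P L := (faithfulSMul_iff_algebraMap_injective P L).mpr hs.1
  letI : Algebra K L := FractionRing.liftAlgebra P L
  haveI : IsScalarTower k K L := IsScalarTower.of_algebraMap_eq fun c => by
    rw [IsScalarTower.algebraMap_apply k P K, ← IsScalarTower.algebraMap_apply P K L, ← IsScalarTower.algebraMap_apply k P L]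
  let e := hs.1.aevalEquivField
  haveI : Algebra.IsSeparable K L := by
    haveI := hsep
    refine Algebra.IsSeparable.of_equiv_equiv e.symm.toRingEquiv (RingEquiv.refl L) ?_
    have h : ((algebraMap K L).comp e.symm.toRingEquiv.toRingHom).comp e.toRingEquiv.toRingHom =
        (algebraMap (IntermediateField.adjoin k (Set.range s)) L).comp e.toRingEquiv.toRingHom := by
      refine IsLocalization.ringHom_ext (nonZeroDivisors P) ?_
      refine RingHom.ext fun p => ?_
      show algebraMap K L (e.symm (e (algebraMap P K p))) = (e (algebraMap P K p) : L)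
      rw [AlgEquiv.symm_apply_apply, ← IsScalarTower.algebraMap_apply,
        AlgebraicIndependent.aevalEquivField_algebraMap_apply_coe]
      rfl
    ext x
    obtain ⟨y, rfl⟩ := e.surjective x
    exact RingHom.congr_fun h y
  haveI : Algebra.EssFiniteType K L := Algebra.EssFiniteType.of_comp k K L
  haveI : FiniteDimensional K L := Algebra.finite_of_essFiniteType_of_isAlgebraic
  obtain ⟨θ, hθ⟩ := Field.exists_primitive_element K L
  obtain ⟨⟨m, hm⟩, hint⟩ := IsIntegral.exists_multiple_integral_of_isLocalization (nonZeroDivisors P) θ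
    (IsIntegral.of_finite K θ)
  let θ' : L := m • θ
  have hint' : IsIntegral P θ' := hint
  have hθ' : K⟮θ'⟯ = ⊤ := by
    rw [eq_top_iff, ← hθ, IntermediateField.adjoin_simple_le_iff]
    have h1 : θ' = algebraMap P K m • θ := (algebraMap_smul K m θ).symm
    have h2 : θ = (algebraMap P K m)⁻¹ • θ' := by
      rw [h1, inv_smul_smul₀]
      exact fun h0 => nonZeroDivisors.ne_zero hm ((map_eq_zero_iff _ (IsFractionRing.injective P K)).mp h0)
    rw [h2]
    exact IntermediateField.smul_mem _ (IntermediateField.mem_adjoin_simple_self K θ')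
  let g := minpoly P θ'
  have hgK : g.map (algebraMap P K) = minpoly K θ' := (minpoly.isIntegrallyClosed_eq_field_fractions' K hint').symm
  have hgm : g.Monic := minpoly.monic hint'
  let φ : AdjoinRoot g →ₐ[k] L :=
    ((Algebra.adjoin P {θ'}).val.comp (minpoly.equivAdjoin hint').toAlgHom).restrictScalars k
  have hφinj : Function.Injective φ := by
    intro a b hab
    exact (minpoly.equivAdjoin hint').injective (Subtype.ext hab)
  haveI : IsDomain (AdjoinRoot g) := Function.Injective.isDomain φ.toRingHom hφinj
  refine ⟨g, hgm, ?_, ?_, inferInstance, φ, ?_⟩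
  · rw [hgK]; exact minpoly.irreducible (IsIntegral.of_finite K θ')
  · rw [hgK]; exact Algebra.IsSeparable.isSeparable K θ'
  letI := φ.toRingHom.toAlgebra
  haveI : FaithfulSMul (AdjoinRoot g) L := (faithfulSMul_iff_algebraMap_injective _ _).mpr hφinj
  refine IsFractionRing.of_field (R := AdjoinRoot g) (K := L) fun z => ?_
  have hz : z ∈ K⟮θ'⟯ := hθ' ▸ IntermediateField.mem_top
  rw [← IntermediateField.mem_toSubalgebra, IntermediateField.adjoin_simple_toSubalgebra_of_isAlgebraic
    (Algebra.IsAlgebraic.isAlgebraic θ'), Algebra.adjoin_singleton_eq_range_aeval] at hz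
  obtain ⟨q, hq⟩ := hz
  obtain ⟨b, hb, hbq⟩ := IsLocalization.integerNormalization_spec (nonZeroDivisors P) q
  have hφ : ∀ r : P[X], φ (AdjoinRoot.mk g r) = aeval θ' r := by
    intro r
    have h : ((Algebra.adjoin P {θ'}).val.comp (minpoly.equivAdjoin hint').toAlgHom).comp
        (AdjoinRoot.mkₐ g) = aeval θ' := Polynomial.algHom_ext (by simp [minpoly.equivAdjoin, g])
    exact DFunLike.congr_fun h r
  refine ⟨AdjoinRoot.mk g (IsLocalization.integerNormalization (nonZeroDivisors P) q), AdjoinRoot.of g b, ?_⟩
  have hb0 : algebraMap P L b ≠ 0 := fun h0 => nonZeroDivisors.ne_zero hb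
    ((map_eq_zero_iff _ (FaithfulSMul.algebraMap_injective P L)).mp h0)
  have hb' : φ (AdjoinRoot.of g b) = algebraMap P L b := by
    rw [← AdjoinRoot.mk_C, hφ, aeval_C]
  show z = φ (AdjoinRoot.mk g _) / φ (AdjoinRoot.of g b)
  rw [hb', hφ, eq_div_iff hb0, ← aeval_map_algebraMap K, hbq, ← algebraMap_smul K b q, map_smul, algebraMap_smul, Algebra.smul_def, show aeval θ' q = z from hq]
  exact mul_comm _ _

end Groth.Agent.H7Variety
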