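import Groth.Agent.H7Variety.TangentRank
import Groth.Agent.H8Props.FieldDimScheme
import Groth.Prelude.Def_FixPt
import Mathlib.AlgebraicGeometry.Morphisms.FiniteType

/-!
# Points of small tangent rank have small image
-/

set_option autoImplicit false
set_option linter.style.haveILetI false
universe u

open CategoryTheory AlgebraicGeometry TopologicalSpace

namespace Groth.Agent.H7Variety

theorem dim_le_of_cdim {Y : Scheme.{u}} {T : Set Y} (hT : IsClosed T) (d : WithBot ℕ∞)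
    (h : ∀ η ∈ T, H8Props.FieldDim.cdim η ≤ d) : topologicalKrullDim T ≤ d := by
  haveI : QuasiSober T := hT.isClosedEmbedding_subtypeVal.quasiSober
  rw [H8Props.FieldDim.dim_eq_iSup_cdim]
  refine iSup_le fun t => ?_
  rw [H8Props.FieldDim.cdim, Topology.IsEmbedding.subtypeVal.closure_eq_preimage_closure_image, Set.image_singleton,
    H8Props.FieldDim.dim_preimage Topology.IsEmbedding.subtypeVal]
  exact (H8Props.FieldDim.dim_mono Set.inter_subset_left).trans (h t.1 t.2)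

theorem fromSpec_over {k : Type u} [Field k] {Z : Scheme.{u}} (q : Z ⟶ Spec (CommRingCat.of k))
    {U : Z.Opens} (hU : IsAffineOpen U) :
    hU.fromSpec ≫ q = Spec.map (CommRingCat.ofHom
      ((Z.presheaf.map (homOfLE (le_top (a := U))).op).hom.comp (Coh.toGlobal q))) := by
  have h1 : q = Z.toSpecΓ ≫ Spec.map ((Scheme.ΓSpecIso (CommRingCat.of k)).inv ≫ q.appTop) := by
    rw [Spec.map_comp, ← Scheme.toSpecΓ_naturality_assoc, toSpecΓ_SpecMap_ΓSpecIso_inv, Category.comp_id]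
  conv_lhs => rw [h1, IsAffineOpen.fromSpec_toSpecΓ_assoc, ← Spec.map_comp]
  rfl

theorem dim_closure_image_le (k : Type u) [Field k] [IsAlgClosed k] [CharZero k]
    {X Y : Scheme.{u}} (qX : X ⟶ Spec (CommRingCat.of k)) (qY : Y ⟶ Spec (CommRingCat.of k))
    [LocallyOfFiniteType qX] [QuasiCompact qX] [LocallyOfFiniteType qY] [QuasiCompact qY]
    (f : X ⟶ Y) (hf : f ≫ qY = qX) (r : ℕ) (Xr : Set X)
    (hXr : ∀ x ∈ Xr, IsClosed ({x} : Set X) ∧
      ∃ S : Finset (IsLocalRing.CotangentSpace (X.presheaf.stalk x)), S.card ≤ r ∧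
        (LinearMap.range (FixPt.cotangentMapAt f x (f.base x) rfl) : Set (IsLocalRing.CotangentSpace (X.presheaf.stalk x))) ⊆
          (Submodule.span (IsLocalRing.ResidueField (X.presheaf.stalk x))
            (S : Set (IsLocalRing.CotangentSpace (X.presheaf.stalk x))) : Set (IsLocalRing.CotangentSpace (X.presheaf.stalk x)))) :
    topologicalKrullDim ↥(closure (f.base '' Xr)) ≤ r := by
  classical
  haveI : IsLocallyNoetherian X := LocallyOfFiniteType.isLocallyNoetherian qX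
  haveI : CompactSpace X := QuasiCompact.compactSpace_of_compactSpace qX
  haveI : IsNoetherian X := ⟨⟩
  haveI : NoetherianSpace X := inferInstance
  refine dim_le_of_cdim isClosed_closure _ fun η hη => ?_
  obtain ⟨V, hV, hηV, -⟩ := exists_isAffineOpen_mem_and_subset (X := Y) (x := η) (U := ⊤) trivial
  let R := Γ(Y, V)
  letI akR : Algebra k R := ((Y.presheaf.map (homOfLE le_top).op).hom.comp (Coh.toGlobal qY)).toAlgebra
  haveI : Algebra.FiniteType k R :=
    H8Props.FieldDim.finiteType_of_chart qY hV.fromSpec (fromSpec_over qY hV)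
  haveI : IsNoetherianRing R := Algebra.FiniteType.isNoetherianRing k R
  let pη := hV.primeIdealOf ⟨η, hηV⟩
  let TR : Set (Ideal R) := {P | ∃ x ∈ Xr, ∃ h : f.base x ∈ V, (hV.primeIdealOf ⟨_, h⟩).asIdeal = P}
  have hTR : ∀ P ∈ TR, P.IsPrime := by rintro P ⟨x, -, h, rfl⟩; infer_instance
  have hIη : sInf TR ≤ pη.asIdeal := by
    intro a ha
    by_contra hna
    have hb : η ∈ Y.basicOpen a := by
      have h1 : pη ∈ hV.fromSpec ⁻¹ᵁ Y.basicOpen a := by
        rw [hV.fromSpec_preimage_basicOpen]; exact hna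
      have h2 : hV.fromSpec pη ∈ Y.basicOpen a := h1
      rwa [hV.fromSpec_primeIdealOf] at h2
    obtain ⟨y, hy, x, hx, rfl⟩ := mem_closure_iff.mp hη _ (Y.basicOpen a).2 hb
    have hxV : f.base x ∈ V := Y.basicOpen_le a hy
    have h2 : hV.primeIdealOf ⟨_, hxV⟩ ∈ hV.fromSpec ⁻¹ᵁ Y.basicOpen a := by
      show hV.fromSpec _ ∈ Y.basicOpen a
      rw [hV.fromSpec_primeIdealOf]; exact hy
    rw [hV.fromSpec_preimage_basicOpen] at h2
    exact h2 ((Submodule.mem_sInf.mp ha) _ ⟨x, hx, hxV, rfl⟩)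
  obtain ⟨p, hpmin, hpη⟩ := Ideal.exists_minimalPrimes_le hIη
  haveI := hpmin.1.1
  have hp := eq_sInf_of_mem_minimalPrimes TR hTR hpmin
  have hcd : H8Props.FieldDim.cdim η ≤ ringKrullDim (R ⧸ p) := by
    have h := H8Props.FieldDim.cdim_eq_chart qY (A := R) hV.fromSpec pη
    rw [hV.fromSpec_primeIdealOf] at h
    exact h.trans_le (ringKrullDim_le_of_surjective (Ideal.Quotient.factor hpη) (Ideal.Quotient.factor_surjective hpη))
  refine hcd.trans ?_
  -- finitely many affine charts of the preimage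
  have hcpt : IsCompact ((f ⁻¹ᵁ V : X.Opens) : Set X) := NoetherianSpace.isCompact _
  obtain ⟨s, hsfin, hs⟩ := isCompact_and_isOpen_iff_finite_and_eq_biUnion_affineOpens.mp ⟨hcpt, (f ⁻¹ᵁ V).2⟩
  haveI := hsfin.fintype
  have hle : ∀ U : s, (U.1 : X.Opens) ≤ f ⁻¹ᵁ V := fun U y hy => by
    show y ∈ ((f ⁻¹ᵁ V : X.Opens) : Set X)
    rw [hs]; exact Set.mem_iUnion₂.mpr ⟨U.1, U.2, hy⟩
  let φ : ∀ U : s, R →+* Γ(X, U.1) := fun U => (f.appLE V U.1 (hle U)).hom
  let TA : ∀ U : s, Set (Ideal Γ(X, U.1)) := fun U =>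
    {P | ∃ x ∈ Xr, ∃ h : x ∈ (U.1 : X.Opens), (U.1.2.primeIdealOf ⟨x, h⟩).asIdeal = P ∧ p ≤ P.comap (φ U)}
  have hcomap : ∀ (U : s) (x : X) (h : x ∈ (U.1 : X.Opens)),
      (U.1.2.primeIdealOf ⟨x, h⟩).asIdeal.comap (φ U) = (hV.primeIdealOf ⟨f.base x, hle U h⟩).asIdeal :=
    fun U x h => congrArg PrimeSpectrum.asIdeal (IsAffineOpen.comap_primeIdealOf_appLE V hV U.1 U.1.2 (hle U) h (f := f))
  have hinf : Finset.univ.inf (fun U : s => (sInf (TA U)).comap (φ U)) ≤ p := by
    intro a ha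
    rw [hp]
    refine Submodule.mem_sInf.mpr ?_
    rintro P ⟨⟨x, hx, hxV, rfl⟩, hpP⟩
    obtain ⟨U, hU, hxU⟩ := Set.mem_iUnion₂.mp (show x ∈ ⋃ U ∈ s, ((U : X.Opens) : Set X) from hs ▸ hxV)
    have h1 : a ∈ (sInf (TA ⟨U, hU⟩)).comap (φ ⟨U, hU⟩) := (Finset.inf_le (f := fun U : s => (sInf (TA U)).comap (φ U)) (Finset.mem_univ (⟨U, hU⟩ : s))) ha
    rw [← hcomap ⟨U, hU⟩ x hxU] at hpP ⊢
    exact (Submodule.mem_sInf.mp h1) _ ⟨x, hx, hxU, rfl, hpP⟩
  obtain ⟨U, -, hU⟩ := (Ideal.IsPrime.inf_le' hpmin.1.1).mp hinf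
  let A := Γ(X, U.1)
  letI aRA : Algebra R A := (φ U).toAlgebra
  letI akA : Algebra k A := ((X.presheaf.map (homOfLE le_top).op).hom.comp (Coh.toGlobal qX)).toAlgebra
  haveI : IsScalarTower k R A := .of_algebraMap_eq' <| by
    show _ = (f.appLE V U.1 (hle U)).hom.comp ((Y.presheaf.map (homOfLE le_top).op).hom.comp (Coh.toGlobal qY))
    have h : qX.appTop ≫ X.presheaf.map (homOfLE le_top).op =
        qY.appTop ≫ Y.presheaf.map (homOfLE le_top).op ≫ f.appLE V U.1 (hle U) := by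
      rw [Scheme.Hom.map_appLE, Scheme.Hom.appLE, ← Category.assoc]
      simp only [← hf, Scheme.Hom.comp_appTop, Category.assoc]
      rfl
    ext c
    exact congr($h ((Scheme.ΓSpecIso (CommRingCat.of k)).inv c))
  haveI : Algebra.FiniteType k A :=
    H8Props.FieldDim.finiteType_of_chart qX U.1.2.fromSpec (fromSpec_over qX U.1.2)
  haveI : IsNoetherianRing A := Algebra.FiniteType.isNoetherianRing k A
  let J := sInf (TA U)
  have hJrad : J.radical = J := by
    refine le_antisymm (le_sInf fun P hP => ?_) Ideal.le_radical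
    obtain ⟨x, hx, h, rfl, hpP⟩ := hP
    exact (Ideal.radical_mono (sInf_le (show _ ∈ TA U from ⟨x, hx, h, rfl, hpP⟩))).trans (Ideal.IsPrime.radical inferInstance).le
  have hJfin := J.finite_minimalPrimes_of_isNoetherianRing A
  obtain ⟨q, hq, hqp⟩ : ∃ q ∈ J.minimalPrimes, q.comap (algebraMap R A) ≤ p := by
    have h1 : hJfin.toFinset.inf (fun q => q.comap (algebraMap R A)) ≤ p := by
      intro a ha
      apply hU
      show algebraMap R A a ∈ J
      rw [← hJrad, ← Ideal.sInf_minimalPrimes, Submodule.mem_sInf]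
      exact fun q hq => (Finset.inf_le (f := fun q => q.comap (algebraMap R A)) (hJfin.mem_toFinset.mpr hq)) ha
    obtain ⟨q, hq, hqp⟩ := (Ideal.IsPrime.inf_le' hpmin.1.1).mp h1
    exact ⟨q, hJfin.mem_toFinset.mp hq, hqp⟩
  haveI := hq.1.1
  have hTA : ∀ P ∈ TA U, P.IsPrime := by rintro P ⟨x, -, h, rfl, -⟩; infer_instance
  have hqs := eq_sInf_of_mem_minimalPrimes (TA U) hTA hq
  have hqp' : q.comap (algebraMap R A) = p := by
    refine le_antisymm hqp fun a ha => ?_
    show algebraMap R A a ∈ q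
    refine hq.1.2 (Submodule.mem_sInf.mpr ?_)
    rintro P ⟨x, hx, h, rfl, hpP⟩
    exact hpP ha
  haveI : q.LiesOver p := ⟨hqp'.symm⟩
  let T : Set (Ideal (A ⧸ q)) := {Q | ∃ P ∈ TA U, q ≤ P ∧ Ideal.map (Ideal.Quotient.mk q) P = Q}
  have hT : sInf T = ⊥ := by
    rw [eq_bot_iff]
    intro c hc
    obtain ⟨a, rfl⟩ := Ideal.Quotient.mk_surjective c
    rw [Ideal.mem_bot, Ideal.Quotient.eq_zero_iff_mem, hqs]
    refine Submodule.mem_sInf.mpr fun P hP => ?_
    have h1 : Ideal.Quotient.mk q a ∈ Ideal.map (Ideal.Quotient.mk q) P :=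
      Ideal.mem_sInf.mp hc (show Ideal.map (Ideal.Quotient.mk q) P ∈ T from ⟨P, hP.1, hP.2, rfl⟩)
    exact (Ideal.mem_quotient_iff_mem hP.2).mp h1
  haveI : Algebra.FiniteType k (R ⧸ p) := Algebra.FiniteType.trans (R := k) (S := R) inferInstance inferInstance
  haveI : Algebra.FiniteType k (A ⧸ q) := Algebra.FiniteType.trans (R := k) (S := A) inferInstance inferInstance
  haveI : IsScalarTower k (R ⧸ p) (A ⧸ q) := IsScalarTower.of_algebraMap_eq fun c => by
    show Ideal.Quotient.mk q (algebraMap k A c) = Ideal.Quotient.mk q (algebraMap R A (algebraMap k R c))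
    rw [← IsScalarTower.algebraMap_apply k R A]
  refine dim_le_of_rank_le (k := k) (R := R ⧸ p) (C := A ⧸ q)
    ((injective_iff_map_eq_zero (algebraMap (R ⧸ p) (A ⧸ q))).mpr ?_) r T hT ?_
  · intro z hz
    obtain ⟨a, rfl⟩ := Ideal.Quotient.mk_surjective z
    rw [Ideal.Quotient.eq_zero_iff_mem, ← hqp']
    change Ideal.Quotient.mk q (algebraMap R A a) = 0 at hz
    show algebraMap R A a ∈ q
    exact Ideal.Quotient.eq_zero_iff_mem.mp hz
  rintro Q ⟨P, ⟨x, hx, hxU, rfl, hpP⟩, hqP, rfl⟩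
  let P := (U.1.2.primeIdealOf ⟨x, hxU⟩).asIdeal
  obtain ⟨hxcl, S, hS, hrange⟩ := hXr x hx
  haveI hP : P.IsMaximal := (PrimeSpectrum.isClosed_singleton_iff_isMaximal _).mp <| by
    have h1 : IsClosed (U.1.2.fromSpec ⁻¹' {x}) := hxcl.preimage U.1.2.fromSpec.continuous
    have h2 : U.1.2.fromSpec ⁻¹' {x} = {U.1.2.primeIdealOf ⟨x, hxU⟩} := by
      refine Set.ext fun p => ⟨fun hp => U.1.2.fromSpec.isOpenEmbedding.injective
        (Eq.trans hp (U.1.2.fromSpec_primeIdealOf ⟨x, hxU⟩).symm), ?_⟩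
      rintro rfl; exact U.1.2.fromSpec_primeIdealOf ⟨x, hxU⟩
    exact h2 ▸ h1
  letI := Ideal.Quotient.field P
  haveI : Module.Finite k (A ⧸ P) := finite_of_finite_type_of_isJacobsonRing k (A ⧸ P)
  let ε₀ : A →ₐ[k] k := (AlgEquiv.ofBijective (Algebra.ofId k (A ⧸ P))
    IsAlgClosed.algebraMap_bijective_of_isIntegral).symm.toAlgHom.comp (Ideal.Quotient.mkₐ k P)
  have hε₀ : RingHom.ker ε₀ = P := by
    ext a
    simp [ε₀, RingHom.mem_ker, Ideal.Quotient.eq_zero_iff_mem]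
  let ε : A ⧸ q →ₐ[k] k := Ideal.Quotient.liftₐ q ε₀ fun a ha => by
    rw [← RingHom.mem_ker, hε₀]; exact hqP ha
  refine ⟨ε, ?_, fun n D hD => ?_⟩
  · ext c
    obtain ⟨a, rfl⟩ := Ideal.Quotient.mk_surjective c
    rw [RingHom.mem_ker, Ideal.mem_quotient_iff_mem hqP]
    exact (SetLike.ext_iff.mp hε₀ a)
  letI := TopCat.Presheaf.algebra_section_stalk X.presheaf (⟨x, hxU⟩ : U.1.1)
  haveI := U.1.2.isLocalization_stalk ⟨x, hxU⟩
  let D' : A →ₗ[k] (Fin n → k) := D.comp (Ideal.Quotient.mkₐ k q).toLinearMap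
  have key := rank_le_of_cotangent (R := R) (O := X.presheaf.stalk x) P ε₀ hε₀ S hS (fun a ha hm => ?_) D'
    (fun a b => by
      show D (Ideal.Quotient.mk q (a * b)) = _
      rw [map_mul, hD]; rfl)
  · have hr : Set.range (D ∘ algebraMap (R ⧸ p) (A ⧸ q)) = Set.range (D' ∘ algebraMap R A) := by
      rw [← Ideal.Quotient.mk_surjective.range_comp (D ∘ algebraMap (R ⧸ p) (A ⧸ q))]
      rfl
    rw [hr]; exact key
  -- the class of a pulled back function lies in the image of the cotangent map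
  have hyV : f.base x ∈ V := hle U hxU
  have he : FixPt.stalkMapAt f x (f.base x) rfl (Y.presheaf.germ V _ hyV a) =
      algebraMap A (X.presheaf.stalk x) (algebraMap R A a) := by
    show f.stalkMap x ((Y.presheaf.stalkCongr (Inseparable.of_eq rfl)).inv (Y.presheaf.germ V _ hyV a)) = _
    have hid : (Y.presheaf.stalkCongr (Inseparable.of_eq (rfl : f.base x = f.base x))).inv = 𝟙 _ := by
      simp [TopCat.Presheaf.stalkCongr]
    rw [hid]
    show f.stalkMap x (Y.presheaf.germ V _ hyV a) = X.presheaf.germ _ x hxU (f.appLE V U.1 (hle U) a)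
    rw [Scheme.Hom.germ_stalkMap_apply, Scheme.Hom.appLE, CommRingCat.comp_apply]
    exact (X.presheaf.germ_res_apply _ _ _ _).symm
  have hmem : Y.presheaf.germ V _ hyV a ∈ IsLocalRing.maximalIdeal (Y.presheaf.stalk (f.base x)) := by
    by_contra hu
    rw [IsLocalRing.mem_maximalIdeal, mem_nonunits_iff, not_not] at hu
    have := hu.map (FixPt.stalkMapAt f x (f.base x) rfl)
    rw [he] at this
    exact (IsLocalRing.mem_maximalIdeal _).mp hm this
  have h1 := hrange ⟨Ideal.toCotangent _ ⟨_, hmem⟩, rfl⟩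
  rw [FixPt.cotangentMapAt, Ideal.mapCotangent_toCotangent] at h1
  refine (iff_of_eq (congrArg (fun z => z ∈ Submodule.span (IsLocalRing.ResidueField (X.presheaf.stalk x))
    (S : Set (IsLocalRing.CotangentSpace (X.presheaf.stalk x)))) (congrArg (Ideal.toCotangent _) (Subtype.ext he.symm)))).mpr h1

end Groth.Agent.H7Variety
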