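import Groth.Agent.H11Bertini.CharZero
import Groth.Agent.H8Props.FieldDimRing
import Mathlib.RingTheory.Kaehler.Basic
import Mathlib.RingTheory.Ideal.MinimalPrime.Noetherian

/-!
# Tangent rank and the dimension of images
-/

set_option autoImplicit false
set_option linter.style.haveILetI false
universe u

namespace Groth.Agent.H7Variety

/-- A minimal prime over an intersection of a family of primes is the intersection of those members
containing it. -/
theorem eq_sInf_of_mem_minimalPrimes {A : Type u} [CommRing A] [IsNoetherianRing A] (T : Set (Ideal A))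
    (hT : ∀ P ∈ T, P.IsPrime) {p : Ideal A} (hp : p ∈ (sInf T).minimalPrimes) :
    p = sInf {P ∈ T | p ≤ P} := by
  classical
  refine le_antisymm (le_sInf fun P hP => hP.2) fun a ha => ?_
  by_contra hap
  haveI := hp.1.1
  have hfin := (sInf T).finite_minimalPrimes_of_isNoetherianRing A
  obtain ⟨b, hb, hbp⟩ : ∃ b, (∀ q ∈ (sInf T).minimalPrimes, q ≠ p → b ∈ q) ∧ b ∉ p := by
    have h : ¬ (hfin.toFinset.erase p).inf id ≤ p := by
      rw [Ideal.IsPrime.inf_le' hp.1.1]
      rintro ⟨q, hq, hqp⟩
      rw [Finset.mem_erase, Set.Finite.mem_toFinset] at hq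
      exact hq.1 (le_antisymm hqp (hp.2 hq.2.1 hqp))
    obtain ⟨b, hb, hbp⟩ := SetLike.not_le_iff_exists.mp h
    exact ⟨b, fun q hq hne => (Finset.inf_le (f := id) (Finset.mem_erase.mpr ⟨hne, hfin.mem_toFinset.mpr hq⟩)) hb, hbp⟩
  have hab : a * b ∉ sInf T := fun h => (hp.1.1.mem_or_mem (hp.1.2 h)).elim hap hbp
  rw [Submodule.mem_sInf] at hab
  push Not at hab
  obtain ⟨P, hP, habP⟩ := hab
  haveI := hT P hP
  obtain ⟨q, hq, hqP⟩ := Ideal.exists_minimalPrimes_le (show sInf T ≤ P from sInf_le hP)
  by_cases hqp : q = p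
  · subst hqp
    exact habP (Ideal.mul_mem_right _ _ ((Submodule.mem_sInf.mp ha) P ⟨hP, hqP⟩))
  · exact habP (Ideal.mul_mem_left _ _ (hqP (hb q hq hqp)))

/-- If at a dense set of rational points the differential of a dominant map has rank at most `r`, the
target has dimension at most `r` (characteristic zero). -/
theorem dim_le_of_rank_le {k R C : Type u} [Field k] [CharZero k]
    [CommRing R] [IsDomain R] [Algebra k R] [Algebra.FiniteType k R]
    [CommRing C] [IsDomain C] [Algebra k C] [Algebra.FiniteType k C] [Algebra R C] [IsScalarTower k R C]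
    (hinj : Function.Injective (algebraMap R C)) (r : ℕ) (T : Set (Ideal C)) (hT : sInf T = ⊥)
    (hrank : ∀ P ∈ T, ∃ ε : C →ₐ[k] k, RingHom.ker ε = P ∧
      ∀ (n : ℕ) (D : C →ₗ[k] (Fin n → k)), (∀ a b, D (a * b) = ε a • D b + ε b • D a) →
        Module.finrank k (Submodule.span k (Set.range (D ∘ algebraMap R C))) ≤ r) :
    ringKrullDim R ≤ r := by
  classical
  obtain ⟨n, g, hg, hfin⟩ := exists_finite_inj_algHom_of_fg k R
  suffices hn : n ≤ r by
    letI := g.toRingHom.toAlgebra
    haveI : Module.Finite (MvPolynomial (Fin n) k) R := hfin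
    rw [(H05EGA4.dim_int (MvPolynomial (Fin n) k) R).2 hg, MvPolynomial.ringKrullDim_of_isNoetherianRing,
      ringKrullDim_eq_zero_of_field]
    simpa using hn
  let L := FractionRing C
  let t : Fin n → C := fun i => algebraMap R C (g (MvPolynomial.X i))
  have ht : AlgebraicIndependent k fun i => algebraMap C L (t i) := by
    rw [algebraicIndependent_iff_injective_aeval]
    have he : MvPolynomial.aeval (fun i => algebraMap C L (t i)) =
        ((IsScalarTower.toAlgHom k C L).comp (IsScalarTower.toAlgHom k R C)).comp g :=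
      MvPolynomial.algHom_ext fun i => by simp [t]
    rw [he]
    exact ((IsFractionRing.injective C L).comp hinj).comp hg
  let b := Module.Basis.extend (H11Bertini.linearIndependent_D _ ht).linearIndepOn_id
  have hmem : ∀ i, KaehlerDifferential.D k L (algebraMap C L (t i)) ∈
      (H11Bertini.linearIndependent_D _ ht).linearIndepOn_id.extend (Set.subset_univ _) :=
    fun i => Module.Basis.subset_extend _ ⟨i, rfl⟩
  let ψ : Fin n → (Ω[C⁄k] →ₗ[C] L) := fun j =>
    (((Finsupp.lapply ⟨_, hmem j⟩).comp b.repr.toLinearMap).restrictScalars C).comp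
      (KaehlerDifferential.map k k C L)
  have hψ : ∀ i j, ψ j (KaehlerDifferential.D k C (t i)) = if i = j then 1 else 0 := by
    intro i j
    show b.repr (KaehlerDifferential.map k k C L (KaehlerDifferential.D k C (t i))) ⟨_, hmem j⟩ = _
    rw [KaehlerDifferential.map_D]
    have : KaehlerDifferential.D k L (algebraMap C L (t i)) = b ⟨_, hmem i⟩ := (Module.Basis.extend_apply_self (H11Bertini.linearIndependent_D _ ht).linearIndepOn_id ⟨_, hmem i⟩).symm
    conv_lhs => arg 1; rw [this, b.repr_self]
    rw [Finsupp.single_apply]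
    refine if_congr ⟨fun h => ?_, fun h => h ▸ rfl⟩ rfl rfl
    exact (H11Bertini.linearIndependent_D _ ht).injective (congrArg Subtype.val h)
  haveI : Module.Finite C Ω[C⁄k] := inferInstance
  obtain ⟨G, hG⟩ := Module.Finite.fg_top (R := C) (M := Ω[C⁄k])
  obtain ⟨⟨s, hs⟩, hs'⟩ := IsLocalization.exist_integer_multiples (nonZeroDivisors C)
    (Finset.univ ×ˢ G) (fun p : Fin n × Ω[C⁄k] => ψ p.1 p.2)
  have hint : ∀ j (ω : Ω[C⁄k]), s • ψ j ω ∈ LinearMap.range (Algebra.linearMap C L) := by
    intro j ω
    have hω : ω ∈ Submodule.span C (G : Set Ω[C⁄k]) := hG ▸ trivial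
    clear hG
    induction hω using Submodule.span_induction with
    | mem y hy => obtain ⟨c, hc⟩ := hs' (j, y) (Finset.mem_product.mpr ⟨Finset.mem_univ _, hy⟩); exact ⟨c, hc⟩
    | zero => simp
    | add y y' _ _ h h' => rw [map_add, smul_add]; exact add_mem h h'
    | smul c y _ h => rw [map_smul, smul_comm]; exact Submodule.smul_mem _ _ h
  let eL := LinearEquiv.ofInjective (Algebra.linearMap C L) (IsFractionRing.injective C L)
  let φ : Fin n → (Ω[C⁄k] →ₗ[C] C) := fun j =>
    eL.symm.toLinearMap.comp ((s • ψ j).codRestrict _ (hint j))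
  have hφ : ∀ i j, φ j (KaehlerDifferential.D k C (t i)) = if i = j then s else 0 := by
    intro i j
    apply IsFractionRing.injective C L
    have h1 := eL.apply_symm_apply ⟨s • ψ j (KaehlerDifferential.D k C (t i)), hint j _⟩
    refine (congrArg Subtype.val h1).trans ?_
    show s • ψ j _ = _
    rw [hψ]
    split_ifs
    · rw [Algebra.smul_def, mul_one]
    · rw [smul_zero, map_zero]
  obtain ⟨P, hP, hsP⟩ : ∃ P ∈ T, s ∉ P := by
    by_contra h
    push Not at h
    have : s ∈ sInf T := Submodule.mem_sInf.mpr h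
    rw [hT, Ideal.mem_bot] at this
    exact nonZeroDivisors.ne_zero hs this
  obtain ⟨ε, hε, hr⟩ := hrank P hP
  let D : C →ₗ[k] (Fin n → k) := LinearMap.pi fun j =>
    ε.toLinearMap.comp (((φ j).restrictScalars k).comp (KaehlerDifferential.D k C).toLinearMap)
  have hD : ∀ a b, D (a * b) = ε a • D b + ε b • D a := by
    intro a b
    funext j
    show ε (φ j (KaehlerDifferential.D k C (a * b))) = ε a * ε (φ j (KaehlerDifferential.D k C b)) +
      ε b * ε (φ j (KaehlerDifferential.D k C a))
    simp only [Derivation.leibniz, map_add, map_smul, smul_eq_mul, map_mul]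
  refine le_trans ?_ (hr n D hD)
  have hsp : Submodule.span k (Set.range (D ∘ algebraMap R C)) = ⊤ := by
    refine eq_top_iff.mpr ((Pi.basisFun k (Fin n)).span_eq.symm.le.trans (Submodule.span_le.mpr ?_))
    rintro _ ⟨i, rfl⟩
    have hsε : ε s ≠ 0 := fun h => hsP (hε ▸ h)
    have h1 : D (t i) = ε s • (Pi.basisFun k (Fin n)) i := by
      funext j
      show ε (φ j (KaehlerDifferential.D k C (t i))) = ε s * Pi.basisFun k (Fin n) i j
      rw [hφ]
      simp only [Pi.basisFun_apply, Pi.single_apply, eq_comm (a := j)]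
      split_ifs <;> simp
    rw [SetLike.mem_coe, ← Submodule.smul_mem_iff _ hsε, ← h1]
    exact Submodule.subset_span ⟨_, rfl⟩
  rw [hsp, finrank_top, Module.finrank_fin_fun]

/-- The rank of a derivation at a rational point is bounded by the rank of the cotangent map. -/
theorem rank_le_of_cotangent {k R A O : Type u} [Field k] [CommRing R] [CommRing A] [Algebra k R] [Algebra k A]
    [Algebra R A] [IsScalarTower k R A] [CommRing O] [IsLocalRing O] [Algebra A O]
    (P : Ideal A) [P.IsPrime] [IsLocalization.AtPrime O P]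
    (ε : A →ₐ[k] k) (hε : RingHom.ker ε = P) {r : ℕ}
    (S : Finset (IsLocalRing.CotangentSpace O)) (hS : S.card ≤ r)
    (h : ∀ a : R, algebraMap R A a ∈ P → ∀ ha : algebraMap A O (algebraMap R A a) ∈ IsLocalRing.maximalIdeal O,
      Ideal.toCotangent _ ⟨_, ha⟩ ∈ Submodule.span (IsLocalRing.ResidueField O) (S : Set (IsLocalRing.CotangentSpace O)))
    {n : ℕ} (D : A →ₗ[k] (Fin n → k)) (hD : ∀ a b, D (a * b) = ε a • D b + ε b • D a) :
    Module.finrank k (Submodule.span k (Set.range (D ∘ algebraMap R A))) ≤ r := by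
  classical
  let m := IsLocalRing.maximalIdeal O
  have hlift : ∀ v : IsLocalRing.CotangentSpace O, ∃ a, a ∈ P ∧ ∃ (u : P.primeCompl)
      (hm : IsLocalization.mk' O a u ∈ m), Ideal.toCotangent m ⟨_, hm⟩ = v := by
    intro v
    obtain ⟨⟨o, ho⟩, rfl⟩ := Ideal.toCotangent_surjective m v
    obtain ⟨a, u, rfl⟩ := IsLocalization.exists_mk'_eq P.primeCompl o
    exact ⟨a, (IsLocalization.AtPrime.mk'_mem_maximal_iff O P a u).mp ho, u, ho, rfl⟩
  choose num hnum den hden hlift using hlift
  let J₀ : Ideal A := Ideal.span (num '' (S : Set (IsLocalRing.CotangentSpace O))) ⊔ P * P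
  have hJO : ∀ v ∈ Submodule.span (IsLocalRing.ResidueField O) (S : Set (IsLocalRing.CotangentSpace O)),
      ∀ o : m, Ideal.toCotangent m o = v → (o : O) ∈ J₀.map (algebraMap A O) := by
    have hsq : m ^ 2 ≤ J₀.map (algebraMap A O) := by
      rw [show m = P.map (algebraMap A O) from (IsLocalization.AtPrime.map_eq_maximalIdeal P O).symm,
        ← Ideal.map_pow, pow_two]
      exact Ideal.map_mono le_sup_right
    have hindep : ∀ o o' : m, Ideal.toCotangent m o = Ideal.toCotangent m o' →
        (o' : O) ∈ J₀.map (algebraMap A O) → (o : O) ∈ J₀.map (algebraMap A O) := by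
      intro o o' he ho'
      have := hsq ((Ideal.toCotangent_eq m).mp he)
      have := add_mem this ho'
      rwa [sub_add_cancel] at this
    intro v hv
    induction hv using Submodule.span_induction with
    | mem y hy =>
      intro o ho
      refine hindep o ⟨_, hden y⟩ (ho.trans (hlift y).symm) ?_
      show IsLocalization.mk' O (num y) (den y) ∈ _
      rw [IsLocalization.mk'_eq_mul_mk'_one]
      exact Ideal.mul_mem_right _ _ (Ideal.mem_map_of_mem _ (Ideal.mem_sup_left (Ideal.subset_span ⟨y, hy, rfl⟩)))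
    | zero =>
      intro o ho
      exact hindep o 0 (ho.trans (map_zero _).symm) (zero_mem _)
    | add y y' _ _ hy hy' =>
      intro o ho
      obtain ⟨oy, hoy⟩ := Ideal.toCotangent_surjective m y
      obtain ⟨oy', hoy'⟩ := Ideal.toCotangent_surjective m y'
      refine hindep o (oy + oy') (by rw [ho, map_add, hoy, hoy']) ?_
      exact add_mem (hy oy hoy) (hy' oy' hoy')
    | smul c y _ hy =>
      intro o ho
      obtain ⟨oy, hoy⟩ := Ideal.toCotangent_surjective m y
      obtain ⟨c, rfl⟩ := IsLocalRing.residue_surjective c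
      refine hindep o (c • oy) (by rw [ho, map_smul, hoy]; rfl) ?_
      exact Ideal.mul_mem_left _ _ (hy oy hoy)
  let V := Submodule.span k ((S.image (D ∘ num) : Finset (Fin n → k)) : Set (Fin n → k))
  have hJD : ∀ a ∈ J₀, a ∈ P ∧ D a ∈ V := by
    have hP0 : ∀ b ∈ P, ε b = 0 := fun b hb => by rw [← hε] at hb; exact hb
    intro a ha
    obtain ⟨b, hb, c, hc, rfl⟩ := Submodule.mem_sup.mp ha
    clear ha
    have hcP : c ∈ P ∧ D c = 0 := by
      refine Submodule.mul_induction_on hc (fun x hx y hy => ⟨Ideal.mul_mem_left _ _ hy, ?_⟩)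
        fun x y hx hy => ⟨add_mem hx.1 hy.1, by rw [map_add, hx.2, hy.2, add_zero]⟩
      rw [hD, hP0 x hx, hP0 y hy, zero_smul, zero_smul, add_zero]
    suffices hb' : b ∈ P ∧ D b ∈ V by
      exact ⟨add_mem hb'.1 hcP.1, by rw [map_add, hcP.2, add_zero]; exact hb'.2⟩
    induction hb using Submodule.span_induction with
    | mem y hy =>
      obtain ⟨v, hv, rfl⟩ := hy
      exact ⟨hnum v, Submodule.subset_span (Finset.mem_image_of_mem _ hv)⟩
    | zero => exact ⟨zero_mem _, by rw [map_zero]; exact zero_mem _⟩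
    | add y y' _ _ hy hy' => exact ⟨add_mem hy.1 hy'.1, by rw [map_add]; exact add_mem hy.2 hy'.2⟩
    | smul x y _ hy =>
      refine ⟨Ideal.mul_mem_left _ _ hy.1, ?_⟩
      rw [smul_eq_mul, hD, hP0 y hy.1, zero_smul, add_zero]
      exact Submodule.smul_mem _ _ hy.2
  refine le_trans (Submodule.finrank_mono (t := V) ?_) ((finrank_span_finset_le_card _).trans (Finset.card_image_le.trans hS))
  rw [Submodule.span_le]
  rintro _ ⟨a, rfl⟩
  show D (algebraMap R A a) ∈ V
  let a' := a - algebraMap k R (ε (algebraMap R A a))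
  have hone : D 1 = 0 := by
    have := hD 1 1
    rw [mul_one, map_one ε, one_smul] at this
    simpa using this
  have ha' : algebraMap R A a' ∈ P := by
    rw [← hε, RingHom.mem_ker, map_sub, map_sub, ← IsScalarTower.algebraMap_apply, AlgHom.commutes]
    exact sub_self _
  have hDa : D (algebraMap R A a') = D (algebraMap R A a) := by
    rw [map_sub, map_sub, ← IsScalarTower.algebraMap_apply, Algebra.algebraMap_eq_smul_one (R := k) (A := A), map_smul, hone,
      smul_zero, sub_zero]
  rw [← hDa]
  have hm : algebraMap A O (algebraMap R A a') ∈ m :=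
    (IsLocalization.AtPrime.to_map_mem_maximal_iff O P _).mpr ha'
  obtain ⟨u, hu, hua⟩ := (IsLocalization.algebraMap_mem_map_algebraMap_iff P.primeCompl O _ _).mp
    (hJO _ (h a' ha' hm) ⟨_, hm⟩ rfl)
  have h2 := (hJD _ hua).2
  rw [hD, show ε (algebraMap R A a') = 0 by rw [← hε] at ha'; exact ha', zero_smul, add_zero] at h2
  exact (Submodule.smul_mem_iff V (show ε u ≠ 0 from fun h0 => hu (hε ▸ h0))).mp h2

end Groth.Agent.H7Variety
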